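import Cfsg.Agent.J4.Bits
import Cfsg.Agent.M24.Six
import Cfsg.Agent.TT2.Thom

/-! # Coordinates on elementary abelian `2`-groups; recognition of the even Golay cocode -/

set_option autoImplicit false

namespace Cfsg.Agent.LF

open Cfsg.Agent.M24 Cfsg.Agent.GT Subgroup
open scoped Pointwise symmDiff

theorem zpow_xor {G : Type*} [Group G] {z : G} (hz : z * z = 1) (x y : ℕ) :
    z ^ (x ^^^ y) = z ^ x * z ^ y := by
  have h2 : z ^ 2 = 1 := by rw [pow_two, hz]
  rw [← pow_add, ← Nat.mod_add_div (x ^^^ y) 2, ← Nat.mod_add_div (x + y) 2, pow_add, pow_add, pow_mul,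
    pow_mul, h2, one_pow, one_pow, Nat.xor_mod_two_eq]

theorem even_symmDiff {X Y : Finset GolayPt} (hX : Even X.card) (hY : Even Y.card) :
    Even (X ∆ Y).card := by
  have := card_symmDiff_add X Y
  obtain ⟨a, ha⟩ := hX
  obtain ⟨b, hb⟩ := hY
  exact ⟨a + b - (X ∩ Y).card, by omega⟩

theorem card_smul24 (g : M24) (X : Finset GolayPt) : (g • X).card = X.card := by
  rw [M24_smul_def]; exact Finset.card_smul_finset _ _

/-- Bit `x` of `m`. -/
def tbit (m x : ℕ) : Bool := Nat.beq (Nat.land (Nat.shiftRight m x) (nat_lit 1)) (nat_lit 1)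

theorem tbit_eq (m x : ℕ) : tbit m x = m.testBit x := by
  have h : (m >>> x) &&& 1 = (m >>> x) % 2 := Nat.and_one_is_mod _
  rw [Bool.eq_iff_iff, Nat.testBit_eq_decide_div_mod_eq, decide_eq_true_iff, ← Nat.shiftRight_eq_div_pow,
    ← h, tbit, Nat.beq_eq]
  rfl

theorem exists_bits (n : ℕ) (P : ℕ → Prop) : ∃ f < 2 ^ n, ∀ i < n, tbit f i = true ↔ P i := by
  classical
  exact ⟨Nat.ofBits fun i : Fin n => decide (P i), Nat.ofBits_lt_two_pow _, fun i hi => by
    rw [tbit_eq, Nat.testBit_ofBits_lt _ _ hi, decide_eq_true_iff]⟩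

theorem ncard_modEq_fix {G : Type*} [Group G] [Finite G] {p : ℕ} [Fact p.Prime] {g : G}
    (hg : g ^ p = 1) {S : Set G} (hS : ∀ s ∈ S, g * s * g⁻¹ ∈ S) :
    S.ncard ≡ {s | s ∈ S ∧ g * s = s * g}.ncard [MOD p] := by
  classical
  have := Fintype.ofFinite S
  let f : Function.End S := fun s => ⟨g * s * g⁻¹, hS s s.2⟩
  have h1 : ∀ (n : ℕ) (s : S), ((f ^ n) s : G) = g ^ n * s * (g ^ n)⁻¹ := by
    intro n
    induction n with
    | zero => intro s; simp; rfl
    | succ n ih =>
      intro s
      rw [pow_succ' f]
      show g * ((f ^ n) s : G) * g⁻¹ = _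
      rw [ih, pow_succ']; group
  have h2 := Equiv.Perm.card_fixedPoints_modEq (f := f) (p := p) (n := 1) (by
    funext s
    apply Subtype.ext
    rw [h1, pow_one, hg]
    simp; rfl)
  rw [← Nat.card_eq_fintype_card, ← Nat.card_eq_fintype_card] at h2
  have h3 : Nat.card (Function.fixedPoints f) = {s | s ∈ S ∧ g * s = s * g}.ncard := by
    rw [← Nat.card_coe_set_eq]
    refine Nat.card_congr ⟨fun x => ⟨x.1.1, x.1.2, mul_inv_eq_iff_eq_mul.1
      (congrArg Subtype.val x.2)⟩, fun x => ⟨⟨x.1, x.2.1⟩, Subtype.ext
        (mul_inv_eq_iff_eq_mul.2 x.2.2)⟩, fun x => rfl, fun x => rfl⟩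
  rwa [h3] at h2

theorem ncard_conj_orbit {G : Type*} [Group G] (H : Subgroup G) (a : G) :
    Nat.card ↥(H ⊓ C1[a]) * {v : G | ∃ n ∈ H, n * a * n⁻¹ = v}.ncard = Nat.card H := by
  have h := card_inf_stab H (toCj a)
  rw [stabilizer_toCj] at h
  rw [← h]
  congr 2
  ext v
  constructor
  · rintro ⟨n, hn, rfl⟩
    exact ⟨⟨n, hn⟩, rfl⟩
  · rintro ⟨n, rfl⟩
    exact ⟨n.1, n.2, rfl⟩

/-- Products of basis elements. -/
def vc {G : Type*} [Group G] (bs : ℕ → G) : ℕ → ℕ → G
  | 0, _ => 1
  | n + 1, c => vc bs n c * bs n ^ ((c >>> n) &&& 1)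

section
variable {G : Type*} [Group G] {V : Subgroup G} {bs : ℕ → G} {n : ℕ}

theorem vc_mem (hb : ∀ i < n, bs i ∈ V) (c : ℕ) : vc bs n c ∈ V := by
  induction n with
  | zero => exact one_mem _
  | succ n ih => exact mul_mem (ih fun i hi => hb i (by omega)) (pow_mem (hb n (by omega)) _)

theorem vc_xor (hV : ∀ x ∈ V, x * x = 1) (hb : ∀ i < n, bs i ∈ V) (a b : ℕ) :
    vc bs n (a ^^^ b) = vc bs n a * vc bs n b := by
  induction n with
  | zero => simp [vc]
  | succ n ih =>
    have h1 : ∀ i < n, bs i ∈ V := fun i hi => hb i (by omega)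
    have h2 := hb n (by omega)
    rw [vc, vc, vc, ih h1, Nat.shiftRight_xor_distrib, Nat.and_xor_distrib_right, zpow_xor (hV _ h2), mul_assoc,
      mul_assoc, ← mul_assoc (vc bs n b), (TT2.commute_of_elem hV (vc_mem h1 b) (pow_mem h2 _)).eq, mul_assoc]

theorem vc_zero (n : ℕ) : vc bs n 0 = 1 := by
  induction n with
  | zero => rfl
  | succ n ih => simp [vc, ih]

theorem vc_pow (i : ℕ) : vc bs n (2 ^ i) = if i < n then bs i else 1 := by
  induction n with
  | zero => simp [vc]
  | succ n ih =>
    have : ((2 ^ i) >>> n) &&& 1 = if i = n then 1 else 0 := by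
      rw [Nat.and_one_is_mod, Nat.shiftRight_eq_div_pow, ← Nat.toNat_testBit, Nat.testBit_two_pow]
      split_ifs <;> simp [*]
    rw [vc, ih, this]
    split_ifs <;> first | omega | simp [*]

end

/-- Linear coordinates on an elementary abelian group of order `2 ^ n`. -/
structure Co {G : Type*} [Group G] (V : Subgroup G) (n : ℕ) (T : ℕ → G) : Prop where
  le : n ≤ 12
  mul : ∀ a b, T (a ^^^ b) = T a * T b
  mem : ∀ a, T a ∈ V
  surj : ∀ v ∈ V, ∃ a < 2 ^ n, T a = v
  inj : ∀ a < 2 ^ n, T a = 1 → a = 0

/-- `g` acts by the matrix with code `k`. -/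
def Act {G : Type*} [Group G] (n : ℕ) (T : ℕ → G) (g : G) (k : ℕ) : Prop :=
  ∀ a < 2 ^ n, g * T a * g⁻¹ = T (J4.lin k a) ∧ J4.lin k a < 2 ^ n

namespace Co
variable {G : Type*} [Group G] {V : Subgroup G} {n : ℕ} {T : ℕ → G} (C : Co V n T)
include C

theorem zero : T 0 = 1 := by simpa using C.mul 0 0
theorem sq (a : ℕ) : T a * T a = 1 := by rw [← C.mul, Nat.xor_self, C.zero]
theorem lt12 {a : ℕ} (ha : a < 2 ^ n) : a < 4096 := ha.trans_le (Nat.pow_le_pow_right (by norm_num) C.le)
theorem eq {a b : ℕ} (ha : a < 2 ^ n) (hb : b < 2 ^ n) (h : T a = T b) : a = b :=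
  Nat.xor_eq_zero_iff.1 (C.inj _ (Nat.xor_lt_two_pow ha hb) (by rw [C.mul, h, C.sq]))

theorem act_of_basis {g : G} {k : ℕ} (h : ∀ i < n, g * T (2 ^ i) * g⁻¹ = T (J4.fld k i) ∧ J4.fld k i < 2 ^ n) :
    Act n T g k :=
  bits_induction (by simp [J4.lin_zero, C.zero]) (fun i hi => by rw [J4.lin_pow _ (hi.trans_le C.le)]; exact h i hi)
    fun x _ y _ h1 h2 => by
      rw [J4.lin_xor, C.mul, C.mul, ← h1.1, ← h2.1]
      exact ⟨by group, Nat.xor_lt_two_pow h1.2 h2.2⟩

theorem exists_act {g : G} (hg : g ∈ N[V]) : ∃ k, Act n T g k := by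
  choose! f h1 h2 using fun i => C.surj _ (conj_mem_of_mem_norm hg (C.mem (2 ^ i)))
  exact ⟨J4.mk12 f, C.act_of_basis fun i hi => by
    rw [J4.fld_mk12 (fun i _ => C.lt12 (h1 i)) (hi.trans_le C.le)]; exact ⟨(h2 i).symm, h1 i⟩⟩

theorem act_inj {g : G} {k : ℕ} (h : Act n T g k) {a b : ℕ} (ha : a < 2 ^ n) (hb : b < 2 ^ n)
    (e : J4.lin k a = J4.lin k b) : a = b :=
  C.eq ha hb (by have := (h a ha).1; rw [e, ← (h b hb).1] at this; simpa using this)

/-- Convolution counts of invariant sets are invariant. -/
theorem cv_act {g : G} {k : ℕ} (h : Act n T g k) {φ ψ : ℕ → Bool} (h1 : ∀ a < 2 ^ n, φ (J4.lin k a) = φ a)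
    (h2 : ∀ a < 2 ^ n, ψ (J4.lin k a) = ψ a) {x : ℕ} (hx : x < 2 ^ n) :
    bsum (fun a => b2n (band (φ a) (ψ (a ^^^ J4.lin k x)))) n 0 = bsum (fun a => b2n (band (φ a) (ψ (a ^^^ x)))) n 0 := by
  rw [bsum_zero, bsum_zero]
  symm
  refine Finset.sum_bij (fun a _ => J4.lin k a) (fun a ha => Finset.mem_range.2 (h a (Finset.mem_range.1 ha)).2)
    (fun a ha b hb => C.act_inj h (Finset.mem_range.1 ha) (Finset.mem_range.1 hb))
    (fun b hb => ?_) fun a ha => by
      rw [← J4.lin_xor, h1 a (Finset.mem_range.1 ha), h2 _ (Nat.xor_lt_two_pow (Finset.mem_range.1 ha) hx)]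
  obtain ⟨a, ha, e⟩ := Finset.surj_on_of_inj_on_of_card_le (s := Finset.range (2 ^ n)) (t := Finset.range (2 ^ n))
    (fun a _ => J4.lin k a) (fun a ha => Finset.mem_range.2 (h a (Finset.mem_range.1 ha)).2)
    (fun a b ha hb => C.act_inj h (Finset.mem_range.1 ha) (Finset.mem_range.1 hb)) le_rfl b hb
  exact ⟨a, ha, e.symm⟩

end Co

theorem Co.ncard {G : Type*} [Group G] {V : Subgroup G} {n : ℕ} {T : ℕ → G} (C : Co V n T) {P : G → Prop}
    {F : ℕ → Bool} (h : ∀ a < 2 ^ n, P (T a) ↔ F a = true) :
    {b | b ∈ V ∧ P b}.ncard = bsum (fun a => b2n (F a)) n 0 := by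
  rw [bsum_count, ← Set.ncard_coe_finset, ← Set.InjOn.ncard_image (f := T) fun a ha b hb =>
    C.eq (Finset.mem_range.1 (Finset.mem_filter.1 ha).1) (Finset.mem_range.1 (Finset.mem_filter.1 hb).1)]
  congr 1
  ext b
  simp only [Set.mem_image, Set.mem_ofPred_eq, Finset.coe_filter, Finset.mem_range]
  refine ⟨fun ⟨e, c⟩ => ?_, fun ⟨a, c, d⟩ => d ▸ ⟨C.mem a, (h a c.1).2 c.2⟩⟩
  obtain ⟨a, d, rfl⟩ := C.surj b e
  exact ⟨a, ⟨d, (h a d).1 c⟩, rfl⟩

theorem co_of_inj {G : Type*} [Group G] {V : Subgroup G} {n : ℕ} {T : ℕ → G} (le : n ≤ 12)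
    (mul : ∀ a b, T (a ^^^ b) = T a * T b) (mem : ∀ a, T a ∈ V) (inj : ∀ a < 2 ^ n, T a = 1 → a = 0)
    (hc : Nat.card V = 2 ^ n) : Co V n T := by
  refine ⟨le, mul, mem, fun v hv => ?_, inj⟩
  have h0 : T 0 = 1 := by simpa using mul 0 0
  have : Finite V := Nat.finite_of_card_ne_zero (by rw [hc]; positivity)
  obtain ⟨a, e⟩ := (Function.Injective.bijective_of_nat_card_le (f := fun a : Fin (2 ^ n) => (⟨T a, mem a⟩ : V))
    (fun a b e => Fin.ext (Nat.xor_eq_zero_iff.1 (inj _ (Nat.xor_lt_two_pow a.2 b.2) (by
      rw [mul, show T a = T b from congrArg Subtype.val e, ← mul, Nat.xor_self, h0])))) (by simp [hc])).2 ⟨v, hv⟩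
  exact ⟨a, a.2, congrArg Subtype.val e⟩

theorem even_induction {P : Finset GolayPt → Prop} (h0 : P ∅) (h2 : ∀ a b, a ≠ b → P {a, b})
    (hs : ∀ X Y, Even X.card → Even Y.card → P X → P Y → P (X ∆ Y)) : ∀ X, Even X.card → P X := by
  intro X
  induction hn : X.card using Nat.strong_induction_on generalizing X with
  | _ n ih =>
    intro hX
    subst hn
    rcases X.eq_empty_or_nonempty with rfl | hne
    · exact h0
    obtain ⟨a, b, ha, hb, hab⟩ := Finset.one_lt_card_iff.1 (show 1 < X.card by
      have := hne.card_pos; obtain ⟨k, hk⟩ := hX; omega)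
    have h1 : ({a, b} : Finset GolayPt) ⊆ X := by intro x hx; simp at hx; rcases hx with rfl | rfl <;> assumption
    have h3 := card_symmDiff_add X {a, b}
    rw [Finset.inter_eq_right.2 h1, Finset.card_pair hab] at h3
    have h4 : Even (X ∆ {a, b}).card := by obtain ⟨k, hk⟩ := hX; exact ⟨k - 1, by omega⟩
    have := hs _ _ h4 (by rw [Finset.card_pair hab]; decide) (ih _ (by omega) _ rfl h4) (h2 a b hab)
    rwa [symmDiff_symmDiff_cancel_right] at this

/-- An automorphism of the even cocode permuting the duads is induced by `M₂₄`. -/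
theorem exists_M24_of_duads {G : Type*} [Group G] {T : Finset GolayPt → G} (hm : ∀ X Y, T (X ∆ Y) = T X * T Y)
    (h1 : ∀ X, Even X.card → (T X = 1 ↔ IsCw X)) (φ : G ≃* G)
    (h : ∀ Y, Y.card = 2 → ∃ Y', Y'.card = 2 ∧ φ (T Y) = T Y') :
    ∃ g : M24, ∀ X, Even X.card → φ (T X) = T (g • X) := by
  classical
  have h0 : T ∅ = 1 := by simpa using hm ∅ ∅
  have hinj : ∀ X Y, Even X.card → Even Y.card → X.card + Y.card < 8 → T X = T Y → X = Y := fun X Y a b c e => by
    have := card_symmDiff_add X Y
    exact symmDiff_eq_bot.1 (((h1 _ (even_symmDiff a b)).1 (by rw [hm, e, ← hm, symmDiff_self]; exact h0)).eq_empty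
      (by omega))
  choose! A hA1 hA2 using fun j (hj : j ≠ none) => h {none, j} (Finset.card_pair hj.symm)
  have hp : ∀ i j : GolayPt, i ≠ none → j ≠ none → i ≠ j → ({none, i} : Finset GolayPt) ∆ {none, j} = {i, j} :=
    fun i j a b c => by ext x; simp only [Finset.mem_symmDiff, Finset.mem_insert, Finset.mem_singleton]; grind
  have hA3 : ∀ i j, i ≠ none → j ≠ none → i ≠ j → (A i ∩ A j).card = 1 := fun i j a b c => by
    obtain ⟨Y, e1, e2⟩ := h {i, j} (Finset.card_pair c)
    rw [← hp i j a b c, hm, map_mul, hA2 i a, hA2 j b, ← hm] at e2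
    have := card_symmDiff_add (A i) (A j)
    have e3 := hinj _ _ (even_symmDiff (by rw [hA1 i a]; decide) (by rw [hA1 j b]; decide)) (by rw [e1]; decide)
      (by rw [hA1 i a, hA1 j b] at this; omega) e2
    rw [e3, e1, hA1 i a, hA1 j b] at this; omega
  obtain ⟨p, hp0⟩ := Finset.card_eq_one.1 (hA3 (some 0) (some 1) (by simp) (by simp) (by decide))
  have hpA : ∀ j, j ≠ none → p ∈ A j := by
    have a0 : p ∈ A (some 0) ∩ A (some 1) := hp0 ▸ Finset.mem_singleton_self p
    have key : ∀ j, j ≠ none → p ∉ A j → A j = A (some 0) ∆ A (some 1) := fun j hj hn => by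
      have b0 := hA3 j (some 0) hj (by simp) (by rintro rfl; exact hn (Finset.mem_inter.1 a0).1)
      have b1 := hA3 j (some 1) hj (by simp) (by rintro rfl; exact hn (Finset.mem_inter.1 a0).2)
      have c := card_symmDiff_add (A (some 0)) (A (some 1))
      have c2 := card_symmDiff_add (A j ∩ A (some 0)) (A j ∩ A (some 1))
      rw [show A j ∩ A (some 0) ∩ (A j ∩ A (some 1)) = ∅ by
        rw [Finset.inter_inter_inter_comm, hp0]; ext x; simp; rintro h rfl; exact hn h, b0, b1,
        show (A j ∩ A (some 0)) ∆ (A j ∩ A (some 1)) = A j ∩ (A (some 0) ∆ A (some 1)) from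
          (inf_symmDiff_distrib_left _ _ _).symm] at c2
      rw [hp0, hA1 _ (by simp), hA1 _ (by simp), Finset.card_singleton] at c
      have c3 := Finset.eq_of_subset_of_card_le (Finset.inter_subset_left (s₁ := A j) (s₂ := A (some 0) ∆ A (some 1)))
        (by rw [hA1 j hj]; simp at c2; omega)
      exact Finset.eq_of_subset_of_card_le (Finset.inter_eq_left.1 c3) (by rw [hA1 j hj]; omega)
    intro j hj
    by_contra hn
    obtain ⟨k, k0, k1, k2, k3⟩ : ∃ k : GolayPt, k ≠ none ∧ k ≠ some 0 ∧ k ≠ some 1 ∧ k ≠ j := by
      by_cases e : j = some 2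
      · exact ⟨some 3, by simp, by decide, by decide, by rw [e]; decide⟩
      · exact ⟨some 2, by simp, by decide, by decide, Ne.symm e⟩
    have c1 := hA3 k j k0 hj k3
    have c2 : p ∈ A k := by
      by_contra hk
      rw [key k k0 hk, ← key j hj hn, Finset.inter_self, hA1 j hj] at c1; omega
    obtain ⟨q, hq⟩ := Finset.card_eq_one.1 c1
    have c3 : q ∈ A k ∩ A j := hq ▸ Finset.mem_singleton_self q
    rw [key j hj hn, Finset.mem_inter, Finset.mem_symmDiff] at c3
    have fin : ∀ i, i ≠ none → k ≠ i → p ∈ A i → q ∈ A i → False := fun i a b c d => by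
      have := Finset.card_le_card (s := {p, q}) (t := A k ∩ A i) (by
        intro x hx; simp at hx; rcases hx with rfl | rfl <;> simp [*])
      rw [hA3 k i k0 a b, Finset.card_pair (by
        rintro rfl; have := Finset.mem_inter.1 a0; tauto)] at this
      omega
    rcases c3.2 with e | e
    exacts [fin _ (by simp) k1 (Finset.mem_inter.1 a0).1 e.1, fin _ (by simp) k2 (Finset.mem_inter.1 a0).2 e.1]
  have hq : ∀ j, j ≠ none → ∃ q, q ≠ p ∧ A j = {p, q} := fun j hj => by
    obtain ⟨a, b, c, e⟩ := Finset.card_eq_two.1 (hA1 j hj)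
    have := hpA j hj
    rw [e] at this ⊢
    simp at this
    rcases this with rfl | rfl
    exacts [⟨b, c.symm, rfl⟩, ⟨a, c, Finset.pair_comm _ _⟩]
  choose! f f1 f2 using hq
  let σ : GolayPt → GolayPt := fun j => if j = none then p else f j
  have hσ : Function.Injective σ := fun i j e => by
    by_cases a : i = none <;> by_cases b : j = none <;> simp only [σ, a, b, if_true, if_false] at e
    · rw [a, b]
    · exact absurd e.symm (f1 j b)
    · exact absurd e (f1 i a)
    · by_contra c
      have := hA3 i j a b c
      rw [f2 i a, f2 j b, e, Finset.inter_self, Finset.card_pair (f1 j b).symm] at this; omega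
  let g : Equiv.Perm GolayPt := Equiv.ofBijective σ (Finite.injective_iff_bijective.1 hσ)
  have hn : ∀ j, j ≠ none → φ (T {none, j}) = T (g • {none, j}) := fun j hj => by
    rw [hA2 j hj, f2 j hj]; congr 1
    simp [g, σ, hj, Finset.smul_finset_insert, Finset.smul_finset_singleton]
  have key : ∀ X, Even X.card → φ (T X) = T (g • X) := even_induction (by simp [h0]) (fun a b c => by
      by_cases e : a = none
      · subst e; exact hn b c.symm
      by_cases e' : b = none
      · subst e'; rw [Finset.pair_comm]; exact hn a c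
      rw [← hp a b e e' c, smul_symmDiff, hm, hm, map_mul, hn a e, hn b e'])
    fun X Y _ _ a b => by rw [smul_symmDiff, hm, hm, map_mul, a, b]
  refine ⟨⟨g, mem_M24.2 fun X hX => ?_⟩, key⟩
  have e : Even X.card := even_iff_two_dvd.2 (dvd_trans (by norm_num) hX.four_dvd)
  exact (h1 _ (by rwa [Finset.card_smul_finset])).1 (by rw [← key X e, (h1 X e).2 hX, map_one])

/-- From syndromes to coordinates. -/
def TM : ℕ := nat_lit 0x20037652774035b63f36d51e0c05394c8000
/-- From coordinates to syndromes. -/
def TI : ℕ := nat_lit 0x5a08017b5b1cb1570e85e5aaece13e8ea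
/-- The coordinate of a cocode element. -/
def tv (m : ℕ) : ℕ := J4.lin TM (syn m)
/-- The coordinates of the duads. -/
def dq (n : ℕ) : Bool := tbit (nat_lit 0x2800084020402841440402228088000100b0d000070000018200048040200000800004000020111080010401002100001008010400128421800004000020000e020000804000111002010081400100000102001810044281020000804000000e000000000000111e000100010001000e0001000100011110824124814821111e00412001080100000040200008001110004020000800000e001410020108284108884044220200010420802084008421024020804800000070000b0000d000012022880804440001408042000280428180402400082000000d000070b0000001000000000000eee1000e000e000e00011110111011100001824124814821111e) n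
/-- The duad with given coordinates. -/
def du (n : ℕ) : ℕ := apw (nat_lit 10) (nat_lit 1023) (nat_lit 0x1c40024c00000000000000000000000000000000000003cc000000000076000000000000000000003c40000000000000009600000000000000000000244001cc0000000000f6000000000000154001b600000000d6000000000000000000b6000000000000000000002c400000006c40000000344002cc0000000000000000034c00000006cc000000000000000000000000000000000000000000001f400000000000000000000158000583600000000000c411000510000000000000000000000000000000000000000000530cc130000000000000000000000000000000000000000000000000000000001944c800000000000075c000000000000000000000000000000000012b00000adc00000000000000000002170000000000000000000042400000000000000000000000000000000000000000000000000007c8000000000000000000000000000000000000000000000000016f0000000000000000000000000000000000000000000000000043c00000000000000000000d700000001b700000000b7000000000054800000000000000000000000000000000000f700000000000014b000000000000000000000009700000000000000000000000004280000000000770000000000000000000000000000000000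0000000000000275000000000000000000008440000000000000000000000002160000000000001d3000000000000000000000000000000001d100000ad800758000000000235000000000084c000000000134648000000000000000000000000000000000000000000000000016c0000000000000000000000000000000000000000000000000043000000000000000000000000000000000000000000005c3715c0000000000000000073c0000000000000000000000000000000000000000007d400000000000000000001f00000000000000000000000000000000000000000000c9000000012d00000000a9000000000000000000000000053800000000000000000000e9000000000000000000005540000000000000008900150000000000000000000000000000000000690000000000000000000000000000000000000000000000000000000001110000000000000005cc0000000000000000000000000000025345800000000000000176000000000000000000000023200000001130000000000958005c400000000000000297000000000000000638000000000000000000000000000000000000000000654000000000000000000019000000000000000000000000000000000000000000000000000000000000000000024291240000000000000000000000000000000000000000000000000000000000000000000000000000000000000000000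000000000000000000000000000000000000000cc000000018d00000000ac03c2f13c0000000000000000000000000000000000000000ec000000000000000000000000000000000000008c000000000000000000000000000000000000006c0000000000000000000000000000000282a1280000000000000000000000000000000000000000ef000000000000000000000000000000000000008f000000000000000000000000000000000000006f00000000ca000000014d00000000aa000000000095c0000000000004b800002960000000000000ea000008d00000177000004d40000000000000008a00130000009d000000000000045c00000000006a00000000cf00000001af00000000af0302c1300000000000000000000000001560000000000000f40000054400000000000000000000000000000094000000000054c000000000000000000000000074000000000000000000000000000000000000000000000000000000000000001f6000000000000000000007c40000000000000000000000000000000000000000007cc00000000000000000000000000000000000d400000001b400000000b4000000000000000000000000000000001960000000000000000000064400000000000000000000000000000000000000000064c0000000000000000000000000000000000000000000000000000000000503415000000000000000000000000000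0001700011500000000000010e0000000000000000000000000848000000000000000000025500000000005b80000000000005d4004400000000001d200000000000013700000000002c800000006c800000003480000000000ab000000000000000000cb000000016d00000000004340000000320000000000000000002a00000000000000000000000000000000000000001f700000000000006b00000000002200000000000001c800000000000000000000003a00000000000002480000000000eb00000000000000000000000003c800000000008b00000000001a00000000001570000000000000007500000136000000000000000000004c4000000000000a540000000000000000000214000004cc0000000000000000000000000000000000000000000000000000000000000000000000520c812000000000000000000000000000000000000000012c0002c2b00000000000000000000000000000000000000000a0080004800000000000000000000000000000000000000000000000197000002b80000000000000000033800000006b8006d40000000354000000000000000002d400000000000000000000b000000001b000000000d000000000000000000000000000000000000000000012f000900000000000000001d400000000000000000000f000000000001b80000000000000000000000000000000000000238003d40000000000000000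00007000000000003b8002540000000000000012a95000000000000000000002d7000000000000000000008dc0000174000000000000000000000000000000000009dc000000000000450000000000000000000000000000000000000000000000000000000000000000b80e0004e0000000000000000000000000000000000000000000550d41500000000001400004030000000000000000000000000000000000000000000000000000000000000000000012c00000000000000000000000000000000000000000000000000000000000000000000000000000000000000000000000000000000000000000000000001826118000342d134000142511400000000018f00000000000000000000000000000001c2711c00000000000000000000000000000000010241100000000000000000000000000000000000c2310c00000000000000000000000000000000000000014c00000000c700000000ed00000000a700000000000000000086000000008d000000008500000000000000000066000000006d00000000650000000000000000000000000000000000000000000000014f42c0000000000008540000233000000000000064000009d800001120000074000000000000000067001d5000008d80000000000005c800000000008700000000ad00000000a600000000cd0880200400) n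

theorem tv_lt (m : ℕ) : tv m < 2048 :=
  J4.ind12 (P := fun x => J4.lin TM x < 2048) (by simp [J4.lin_zero]) (by decide +kernel)
    (fun x _ y _ h1 h2 => by rw [J4.lin_xor]; exact Nat.xor_lt_two_pow (n := 11) h1 h2) _
    (J4.and4095_lt' (syn m)) |> (J4.lin_and TM (syn m)).symm.trans_lt

theorem tv_xor (a b : ℕ) : tv (a ^^^ b) = tv a ^^^ tv b := by rw [tv, syn_xor, J4.lin_xor]; rfl

theorem mask_pair {a b : GolayPt} (h : a ≠ b) : mask {a, b} = 2 ^ idx a ^^^ 2 ^ idx b := by
  rw [← mask_singleton, ← mask_singleton]
  refine Eq.trans (congrArg mask ?_) (mask_symmDiff _ _)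
  ext x; simp only [Finset.mem_symmDiff, Finset.mem_insert, Finset.mem_singleton]; grind

theorem TI_tv : ∀ X : Finset GolayPt, Even X.card → J4.lin TI (tv (mask X)) = syn (mask X) :=
  even_induction (by rw [mask_empty]; decide +kernel) (fun a b h => by
      have : ∀ i < 24, ∀ j < 24, J4.lin TI (tv (2 ^ i ^^^ 2 ^ j)) = syn (2 ^ i ^^^ 2 ^ j) := by decide +kernel
      rw [mask_pair h]; exact this _ (idx_lt a) _ (idx_lt b))
    fun X Y _ _ h1 h2 => by
      rw [mask_symmDiff]; change J4.lin TI (tv (_ ^^^ _)) = syn (_ ^^^ _)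
      rw [tv_xor, J4.lin_xor, syn_xor, h1, h2]

theorem exists_tv {c : ℕ} (hc : c < 2048) : ∃ X : Finset GolayPt, Even X.card ∧ tv (mask X) = c := by
  have h := ball_zero (show ball (fun c => force (J4.lin TI c <<< 12) fun m => band (band (Nat.ble m 16777215)
    (Nat.beq (pc m % 2) 0)) (Nat.beq (tv m) c)) 11 0 = true by decide +kernel) c hc
  simp only [force_eq, band_eq, Bool.and_eq_true, Nat.ble_eq, Nat.beq_eq] at h
  have h1 := mask_unmask (m := J4.lin TI c <<< 12) (by omega)
  exact ⟨unmask (J4.lin TI c <<< 12), by rw [card_eq_pc, h1]; exact Nat.even_iff.2 h.1.2, by rw [h1, h.2]⟩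

theorem tv_duad {Y : Finset GolayPt} (hY : Y.card = 2) : dq (tv (mask Y)) = true := by
  obtain ⟨a, b, h, rfl⟩ := Finset.card_eq_two.1 hY
  have : ∀ i < 24, ∀ j < 24, i = j ∨ dq (tv (2 ^ i ^^^ 2 ^ j)) = true := by decide +kernel
  rw [mask_pair h]; exact (this _ (idx_lt a) _ (idx_lt b)).resolve_left fun e => h (idx_inj e)

theorem exists_duad {c : ℕ} (hc : c < 2048) (h : dq c = true) :
    ∃ Y : Finset GolayPt, Y.card = 2 ∧ tv (mask Y) = c := by
  have h1 := ball_zero (show ball (fun c => bor (!dq c) (force (2 ^ (du c % 32) ^^^ 2 ^ (du c / 32)) fun m =>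
    band (band (Nat.ble m 16777215) (Nat.beq (pc m) 2)) (Nat.beq (tv m) c))) 11 0 = true by decide +kernel) c hc
  simp only [h, force_eq, bor_eq, band_eq, Bool.not_true, Bool.false_or, Bool.and_eq_true, Nat.ble_eq,
    Nat.beq_eq] at h1
  have h3 := mask_unmask (m := 2 ^ (du c % 32) ^^^ 2 ^ (du c / 32)) (by omega)
  exact ⟨unmask _, by rw [card_eq_pc, h3, h1.1.2], by rw [h3, h1.2]⟩

theorem eq_of_smul_duads {g h : M24}
    (e : ∀ j : GolayPt, j ≠ none → g • ({none, j} : Finset GolayPt) = h • {none, j}) : g = h := by
  have key : ∀ j : GolayPt, j ≠ none → (g • (none : GolayPt) = h • (none : GolayPt) ∧ g • j = h • j) ∨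
      (g • (none : GolayPt) = h • j ∧ g • j = h • (none : GolayPt)) := fun j hj => by
    have := e j hj
    simp only [Finset.smul_finset_insert, Finset.smul_finset_singleton] at this
    exact Set.pair_eq_pair_iff.1 (by simpa using congrArg (fun s : Finset GolayPt => (s : Set GolayPt)) this)
  have h0 : g • (none : GolayPt) = h • (none : GolayPt) := by
    rcases key (some 0) (by simp) with a | a
    · exact a.1
    rcases key (some 1) (by simp) with b | b
    · exact b.1
    · exact absurd (MulAction.injective h (a.1.symm.trans b.1)) (by decide)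
  refine Subtype.ext (Equiv.ext fun j => ?_)
  by_cases hj : j = none
  · rw [hj]; exact h0
  · rcases key j hj with a | a
    · exact a.2
    · exact absurd (MulAction.injective h (a.1.symm.trans h0)) hj

/-- `A` is the even Golay cocode for its normaliser; the duads are the involutions not conjugate to `z`. -/
structure FS {G : Type*} [Group G] (z : G) (A : Subgroup G) (T : ℕ → G) (μ : N[A] →* M24) : Prop where
  co : Co A 11 T
  cls : ∀ a < 2048, a ≠ 0 → (¬IsConj z (T a) ↔ dq a = true)
  conj : ∀ (n : N[A]) (X : Finset GolayPt), Even X.card →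
    (n : G) * T (tv (mask X)) * (n : G)⁻¹ = T (tv (mask (μ n • X)))
  ker : ∀ n, μ n = 1 ↔ (n : G) ∈ A
  onto : Function.Surjective μ

namespace Co
variable {G : Type*} [Group G] {V : Subgroup G} {T : ℕ → G} (C : Co V 11 T)
include C

theorem tv_mul (X Y : Finset GolayPt) : T (tv (mask (X ∆ Y))) = T (tv (mask X)) * T (tv (mask Y)) := by
  rw [mask_symmDiff, ← C.mul, ← tv_xor]; rfl

theorem tv_one (X : Finset GolayPt) (hX : Even X.card) : T (tv (mask X)) = 1 ↔ IsCw X := by
  rw [isCw_iff]
  exact ⟨fun h => by rw [← TI_tv X hX, C.inj _ (tv_lt _) h, J4.lin_zero],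
    fun h => by rw [tv, h, J4.lin_zero, C.zero]⟩

theorem duad_inj {X Y : Finset GolayPt} (hX : X.card = 2) (hY : Y.card = 2)
    (h : T (tv (mask X)) = T (tv (mask Y))) : X = Y := by
  have := card_symmDiff_add X Y
  exact symmDiff_eq_bot.1 (((C.tv_one _ (even_symmDiff (by rw [hX]; decide) (by rw [hY]; decide))).1
    (by rw [C.tv_mul, h, C.sq])).eq_empty (by omega))

theorem exists_FS [Finite G] {z : G} (hz : ∀ a < 2048, a ≠ 0 → (¬IsConj z (T a) ↔ dq a = true)) (hV : C[V] = V)
    (hc : Nat.card V * 244823040 ≤ Nat.card N[V]) : ∃ μ, FS z V T μ := by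
  have key : ∀ n : N[V], ∃ p : M24, ∀ X : Finset GolayPt, Even X.card →
      (n : G) * T (tv (mask X)) * (n : G)⁻¹ = T (tv (mask (p • X))) := fun n =>
    exists_M24_of_duads (T := fun X => T (tv (mask X))) C.tv_mul C.tv_one (MulAut.conj (n : G)) fun Y hY => by
      obtain ⟨k, hk⟩ := C.exists_act n.2
      obtain ⟨a1, a2⟩ := hk _ (tv_lt (mask Y))
      have b1 : tv (mask Y) ≠ 0 := fun e => absurd (e ▸ tv_duad hY) (by decide +kernel)
      obtain ⟨Y', c1, c2⟩ := exists_duad a2 ((hz _ a2 fun e => b1 (C.act_inj hk (tv_lt _) (by norm_num)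
        (by rw [e, J4.lin_zero]))).1 fun h => (hz _ (tv_lt _) b1).2 (tv_duad hY)
          (h.trans (isConj_iff.2 ⟨_, a1⟩ : IsConj _ _).symm))
      exact ⟨Y', c1, by rw [c2, ← a1]; rfl⟩
  choose p hp using key
  have e : ∀ j : GolayPt, j ≠ none → ({none, j} : Finset GolayPt).card = 2 := fun j hj => Finset.card_pair hj.symm
  have uq : ∀ a b : M24, (∀ X : Finset GolayPt, Even X.card → T (tv (mask (a • X))) = T (tv (mask (b • X)))) →
      a = b := fun a b h => eq_of_smul_duads fun j hj =>
    C.duad_inj (by rw [card_smul24, e j hj]) (by rw [card_smul24, e j hj]) (h _ (by rw [e j hj]; decide))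
  let μ : N[V] →* M24 := MonoidHom.mk' p fun a b => uq _ _ fun X hX => by
    rw [mul_smul, ← hp _ X hX, ← hp a _ (by rwa [card_smul24]), ← hp b X hX]; simp [mul_assoc]
  have k : ∀ n, μ n = 1 ↔ (n : G) ∈ V := fun n => ⟨fun h => hV.le fun v hv => by
      obtain ⟨a, ha, rfl⟩ := C.surj v hv
      obtain ⟨X, hX, rfl⟩ := exists_tv ha
      have := hp n X hX
      rw [show p n = 1 from h, one_smul, mul_inv_eq_iff_eq_mul] at this
      exact this.symm, fun h => uq _ _ fun X hX => by
      rw [one_smul, ← show _ = T (tv (mask (μ n • X))) from hp n X hX, ← hV.ge h _ (C.mem _), mul_inv_cancel_right]⟩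
  refine ⟨μ, C, hz, hp, k, MonoidHom.range_eq_top.1 (eq_top_of_le_card _ ?_)⟩
  have h1 := μ.ker.card_mul_index
  rw [index_ker, show μ.ker = V.subgroupOf _ from ext k, card_subgroupOf le_normalizer] at h1
  rw [card_M24]
  exact Nat.le_of_mul_le_mul_left (hc.trans h1.ge) Nat.card_pos

end Co

namespace FS
variable {G : Type*} [Group G] {z : G} {A : Subgroup G} {T : ℕ → G} {μ : N[A] →* M24} (F : FS z A T μ)
include F

theorem exists_duad {t : G} (ht : t ∈ A) (h1 : t ≠ 1) (h : ¬IsConj z t) :
    ∃ Y : Finset GolayPt, Y.card = 2 ∧ T (tv (mask Y)) = t := by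
  obtain ⟨a, b, rfl⟩ := F.co.surj t ht
  obtain ⟨Y, c, rfl⟩ := LF.exists_duad b ((F.cls a b fun e => h1 (e ▸ F.co.zero)).1 h)
  exact ⟨Y, c, rfl⟩

theorem exists_conj {X Y : Finset GolayPt} (hX : X.card = 2) (hY : Y.card = 2) :
    ∃ n : N[A], μ n • X = Y ∧ (n : G) * T (tv (mask X)) * (n : G)⁻¹ = T (tv (mask Y)) := by
  obtain ⟨g, a, b⟩ := trans_sets (hX.trans hY.symm) (by omega)
  obtain ⟨n, c⟩ := F.onto ⟨g, a⟩
  exact ⟨n, c ▸ b, by rw [F.conj n X (by rw [hX]; decide), c, ← b]; rfl⟩

end FS

end Cfsg.Agent.LF
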