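import Cfsg.Agent.LF.Mat
import Cfsg.Agent.Cl.UStd
import Cfsg.Agent.Cl.OExtra

/-! # The Hermitian and quadratic forms on `K4 ^ 6`, monomial maps, orbit tables -/

set_option autoImplicit false

namespace Cfsg.Agent.LF

open Cfsg.Agent.M24 Cfsg.Agent.Cl Equiv

/-- A primitive cube root of unity. -/
def om : K4 := ⟨0, 1⟩
/-- The same as a unit. -/
def omu : K4ˣ := ⟨⟨0, 1⟩, ⟨1, 1⟩, by decide, by decide⟩

instance finiteΓ : Finite Γ := Finite.of_injective _ LinearEquiv.toEquiv_injective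

theorem frob4 : Uni.IsFrob K4 2 :=
  ⟨inferInstance, by rw [Nat.card_eq_fintype_card, card_K4]; rfl, by decide⟩

theorem K4_cases (a : K4) : a = 0 ∨ a = 1 ∨ a = om ∨ a = om + 1 := by revert a; decide

theorem K4u_cube (a : K4ˣ) : a ^ 3 = 1 := by revert a; decide

theorem card_K4u : Nat.card K4ˣ = 3 := by rw [Nat.card_eq_fintype_card]; decide

/-- The norm. -/
def nm (a : K4) : ZMod 2 := a.re * a.re + a.re * a.im + a.im * a.im

/-- The quadratic form. -/
def Q0 : QuadraticForm (ZMod 2) V := LinearMap.BilinMap.toQuadraticMap (LinearMap.mk₂ (ZMod 2)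
  (fun u v : V => ∑ i, ((u i).re * (v i).re + (u i).re * (v i).im + (u i).im * (v i).im))
  (fun _ _ _ => by simp [add_mul, ← Finset.sum_add_distrib]; exact Finset.sum_congr rfl fun _ _ => by ring)
  (fun _ _ _ => by simp [Finset.mul_sum]; exact Finset.sum_congr rfl fun _ _ => by ring)
  (fun _ _ _ => by simp [mul_add, ← Finset.sum_add_distrib]; exact Finset.sum_congr rfl fun _ _ => by ring)
  (fun _ _ _ => by simp [Finset.mul_sum]; exact Finset.sum_congr rfl fun _ _ => by ring))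

theorem Q0_apply (v : V) : Q0 v = ∑ i, nm (v i) := rfl

theorem B_eq {V' : Type*} [AddCommGroup V'] [Module (ZMod 2) V'] (Q : QuadraticForm (ZMod 2) V') (u v : V') :
    Orth.B Q u v = Q (u + v) + Q u + Q v := by
  change Q (u + v) - Q u - Q v = _
  rw [sub_eq_add_neg, sub_eq_add_neg, ZMod.neg_eq_self_mod_two, ZMod.neg_eq_self_mod_two]

theorem stdH_self (v : V) : Uni.stdH K4 6 v v = algebraMap (ZMod 2) K4 (Q0 v) := by
  rw [Uni.stdH_apply, Q0_apply, map_sum]
  exact Finset.sum_congr rfl fun i _ => (show ∀ a : K4, a * star a = algebraMap (ZMod 2) K4 (nm a) by decide) _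

/-- The unitary group. -/
abbrev UG0 : Type := Uni.UG (Uni.stdH K4 6)

/-- A unitary map as an additive automorphism. -/
def res : UG0 →* Γ where
  toFun g := g.1.restrictScalars (ZMod 2)
  map_one' := rfl
  map_mul' _ _ := rfl

theorem res_apply (g : UG0) (v : V) : res g v = g.1 v := rfl

theorem res_inj : Function.Injective res := fun _ _ h => Uni.UG.ext' fun v => LinearEquiv.congr_fun h v

theorem res_Q0 (g : UG0) (v : V) : Q0 (res g v) = Q0 v :=
  (algebraMap (ZMod 2) K4).injective (by rw [← stdH_self, ← stdH_self, res_apply, Uni.UG.h_apply])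

theorem res_smul (g : UG0) (a : K4) (v : V) : res g (a • v) = a • res g v := map_smul g.1 a v

theorem exists_res {g : Γ} (h1 : ∀ v, g (om • v) = om • g v) (h2 : ∀ v, Q0 (g v) = Q0 v) : ∃ u, res u = g := by
  have h3 : ∀ (a : K4) v, g (a • v) = a • g v := fun a v => by
    rcases K4_cases a with rfl | rfl | rfl | rfl <;> simp [h1, add_smul]
  have h4 : ∀ u v, Uni.stdH K4 6 (g u) (g v) + star (Uni.stdH K4 6 (g u) (g v)) =
      Uni.stdH K4 6 u v + star (Uni.stdH K4 6 u v) := fun u v => by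
    have e := stdH_self (g (u + v))
    rw [h2, ← stdH_self, map_add] at e
    simp only [Uni.HForm.add_left, Uni.HForm.add_right] at e
    rw [stdH_self (g u), stdH_self (g v), stdH_self u, stdH_self v, h2, h2] at e
    simp only [Uni.HForm.star_symm]
    linear_combination e
  refine ⟨⟨{ g with map_smul' := h3 }, fun u v => ?_⟩, rfl⟩
  have a := h4 u v
  have b := h4 (om • u) v
  rw [h3] at b
  simp only [Uni.HForm.smul_left] at b
  change Uni.stdH K4 6 (g u) (g v) = _
  revert a b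
  generalize Uni.stdH K4 6 (g u) (g v) = x, Uni.stdH K4 6 u v = y
  revert x y; decide

/-- A monomial map. -/
def monU (d : Fin 6 → K4ˣ) (σ : Perm (Fin 6)) : UG0 :=
  ⟨{ toFun v i := d i * v (σ⁻¹ i)
     invFun v i := ((d (σ i))⁻¹ : K4ˣ) * v (σ i)
     map_add' u v := funext fun i => mul_add _ _ _
     map_smul' a v := funext fun i => mul_left_comm _ _ _
     left_inv v := funext fun i => by simp
     right_inv v := funext fun i => by simp }, fun u v => by
    rw [Uni.stdH_apply, Uni.stdH_apply, ← Equiv.sum_comp σ⁻¹ fun i => u i * star (v i)]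
    refine Finset.sum_congr rfl fun i _ => ?_
    change d i * u (σ⁻¹ i) * star (d i * v (σ⁻¹ i)) = _
    rw [star_mul', mul_mul_mul_comm, (show ∀ a : K4ˣ, (a : K4) * star (a : K4) = 1 by decide) (d i), one_mul]⟩

theorem udet_monU (d : Fin 6 → K4ˣ) (σ : Perm (Fin 6)) : Uni.udet _ (monU d σ) = ∏ i, d i := by
  refine Units.ext ?_
  have : ((monU d σ).1 : V →ₗ[K4] V) = Matrix.toLin' (Matrix.diagonal (fun i => (d i : K4)) * σ⁻¹.permMatrix K4) :=
    LinearMap.ext fun v => funext fun i => by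
      rw [Matrix.toLin'_apply, ← Matrix.mulVec_mulVec, Matrix.mulVec_diagonal, Matrix.permMatrix_mulVec]; rfl
  rw [Uni.coe_udet, this, LinearMap.det_toLin', Matrix.det_mul, Matrix.det_diagonal, Matrix.det_permutation,
    Units.coe_prod]
  rcases Int.units_eq_one_or (Perm.sign σ⁻¹) with e | e <;> rw [e] <;> simp
  exact neg_eq_of_add_eq_zero_left (K4_add_self _)

/-- A monomial map as an additive automorphism. -/
def mon (d : Fin 6 → K4ˣ) (σ : Perm (Fin 6)) : Γ := res (monU d σ)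

theorem mon_apply (d : Fin 6 → K4ˣ) (σ : Perm (Fin 6)) (v : V) (i : Fin 6) :
    mon d σ v i = d i * v (σ⁻¹ i) := rfl

theorem mon_mul (d d' : Fin 6 → K4ˣ) (σ σ' : Perm (Fin 6)) :
    mon d σ * mon d' σ' = mon (fun i => d i * d' (σ⁻¹ i)) (σ * σ') :=
  LinearEquiv.ext fun v => funext fun i => by simp [mon_apply, mul_assoc]

theorem mon_one : mon 1 1 = 1 := LinearEquiv.ext fun v => funext fun i => by simp [mon_apply]

theorem mon_inv (d : Fin 6 → K4ˣ) (σ : Perm (Fin 6)) : (mon d σ)⁻¹ = mon (fun i => (d (σ i))⁻¹) σ⁻¹ :=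
  inv_eq_of_mul_eq_one_right (by rw [mon_mul, ← mon_one]; congr 1 <;> simp [funext_iff])

theorem mon_inj {d d' : Fin 6 → K4ˣ} {σ σ' : Perm (Fin 6)} (h : mon d σ = mon d' σ') : d = d' ∧ σ = σ' := by
  have h1 : ∀ i, d i = d' i ∧ σ'⁻¹ i = σ⁻¹ i := fun i => by
    have := congrFun (LinearEquiv.congr_fun h (Pi.single (σ⁻¹ i) 1)) i
    rw [mon_apply, mon_apply, Pi.single_eq_same, Pi.single_apply] at this
    split_ifs at this with e
    · exact ⟨Units.ext (by simpa using this), e⟩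
    · simp at this
  exact ⟨funext fun i => (h1 i).1, inv_injective (Equiv.ext fun i => (h1 i).2.symm)⟩

theorem mon_conj (d c : Fin 6 → K4ˣ) (σ : Perm (Fin 6)) :
    mon d σ * mon c 1 * (mon d σ)⁻¹ = mon (fun i => c (σ⁻¹ i)) 1 := by
  rw [mul_inv_eq_iff_eq_mul, mon_mul, mon_mul]; congr 1; simp [mul_comm]

/-- The scalar `ω`. -/
def W : Γ := mon (fun _ => omu) 1

theorem W_apply (v : V) : W v = om • v := rfl

theorem W_pow (n : ℕ) : W ^ n = mon (fun _ => omu ^ n) 1 := by
  induction n with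
  | zero => exact mon_one.symm
  | succ n ih => rw [pow_succ, ih, W, mon_mul]; simp [pow_succ]

theorem orderOf_W : orderOf W = 3 := orderOf_eq_prime (p := 3)
  (by rw [W_pow, K4u_cube]; exact mon_one) fun h =>
    absurd (congrFun (mon_inj (h.trans mon_one.symm)).1 0) (by decide)

theorem mem_zW {g : Γ} : g ∈ Subgroup.zpowers W ↔ ∃ c : K4ˣ, g = mon (fun _ => c) 1 := by
  rw [mem_zpowers_iff_mem_range_orderOf, Finset.mem_image]
  refine ⟨fun ⟨n, _, h⟩ => ⟨_, by rw [← h, W_pow]⟩, fun ⟨c, h⟩ => ?_⟩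
  obtain ⟨n, hn, rfl⟩ := (show ∀ c : K4ˣ, ∃ n < 3, c = omu ^ n by decide) c
  exact ⟨n, by rw [orderOf_W]; simpa using hn, by rw [h, W_pow]⟩

theorem res_W (g : UG0) : res g * W = W * res g := LinearEquiv.ext fun v => res_smul g om v

/-- Monomial maps of determinant one over a group of permutations. -/
def PM (S : Subgroup (Perm (Fin 6))) : Subgroup Γ where
  carrier := {g | ∃ d σ, ∏ i, d i = 1 ∧ σ ∈ S ∧ g = mon d σ}
  one_mem' := ⟨1, 1, by simp, S.one_mem, mon_one.symm⟩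
  mul_mem' := by
    rintro _ _ ⟨d, σ, h1, h2, rfl⟩ ⟨d', σ', h3, h4, rfl⟩
    refine ⟨_, _, ?_, S.mul_mem h2 h4, mon_mul _ _ _ _⟩
    rw [Finset.prod_mul_distrib, h1, Equiv.prod_comp σ⁻¹ d', h3, one_mul]
  inv_mem' := by
    rintro _ ⟨d, σ, h1, h2, rfl⟩
    refine ⟨_, _, ?_, S.inv_mem h2, mon_inv _ _⟩
    rw [Finset.prod_inv_distrib, Equiv.prod_comp σ d, h1, inv_one]

theorem card_PM (S : Subgroup (Perm (Fin 6))) : Nat.card (PM S) = 243 * Nat.card S := by
  have : Nat.card {d : Fin 6 → K4ˣ // ∏ i, d i = 1} = 243 := by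
    rw [Nat.card_eq_fintype_card]; decide +kernel
  rw [← this, ← Nat.card_prod]
  refine (Nat.card_eq_of_bijective (fun p : {d : Fin 6 → K4ˣ // ∏ i, d i = 1} × S =>
    (⟨mon p.1 p.2, p.1, p.2, p.1.2, p.2.2, rfl⟩ : PM S)) ⟨fun p q h => ?_, ?_⟩).symm
  · have := mon_inj (congrArg Subtype.val h)
    exact Prod.ext (Subtype.ext this.1) (Subtype.ext this.2)
  · rintro ⟨_, d, σ, h1, h2, rfl⟩
    exact ⟨(⟨d, h1⟩, ⟨σ, h2⟩), rfl⟩

theorem zW_le (S : Subgroup (Perm (Fin 6))) : Subgroup.zpowers W ≤ PM S :=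
  Subgroup.zpowers_le.2 ⟨_, 1, by decide, S.one_mem, rfl⟩

/-- The conjugation. -/
def sg : Γ where
  toFun v i := star (v i)
  invFun v i := star (v i)
  map_add' u v := funext fun i => star_add _ _
  map_smul' a v := funext fun i => (show ∀ (a : ZMod 2) (b : K4), star (a • b) = a • star b by decide) _ _
  left_inv v := funext fun i => star_star _
  right_inv v := funext fun i => star_star _

/-- The type of a vector: zero, first singular orbit, second singular orbit, non-singular. -/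
def ty (n : ℕ) : ℕ := apw (nat_lit 2) (nat_lit 3) (nat_lit 0x6ba79bfea79b6bfe9b6ba7fefefefeaba79b6bfe9b6ba7fe6ba79bfefefefeab9b6ba7fe6ba79bfea79b6bfefefefeabfefefeabfefefeabfefefeababababfda79b6bfe9b6ba7fe6ba79bfefefefeab9b6ba7fe6ba79bfea79b6bfefefefeab6ba79bfea79b6bfe9b6ba7fefefefeabfefefeabfefefeabfefefeababababfd9b6ba7fe6ba79bfea79b6bfefefefeab6ba79bfea79b6bfe9b6ba7fefefefeaba79b6bfe9b6ba7fe6ba79bfefefefeabfefefeabfefefeabfefefeababababfdfefefeabfefefeabfefefeababababfdfefefeabfefefeabfefefeababababfdfefefeabfefefeabfefefeababababfdabababfdabababfdabababfdfdfdfd57a79b6bfe9b6ba7fe6ba79bfefefefeab9b6ba7fe6ba79bfea79b6bfefefefeab6ba79bfea79b6bfe9b6ba7fefefefeabfefefeabfefefeabfefefeababababfd9b6ba7fe6ba79bfea79b6bfefefefeab6ba79bfea79b6bfe9b6ba7fefefefeaba79b6bfe9b6ba7fe6ba79bfefefefeabfefefeabfefefeabfefefeababababfd6ba79bfea79b6bfe9b6ba7fefefefeaba79b6bfe9b6ba7fe6ba79bfefefefeab9b6ba7fe6ba79bfea79b6bfefefefeabfefefeabfefefeabfefefeababab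abfdfefefeabfefefeabfefefeababababfdfefefeabfefefeabfefefeababababfdfefefeabfefefeabfefefeababababfdabababfdabababfdabababfdfdfdfd579b6ba7fe6ba79bfea79b6bfefefefeab6ba79bfea79b6bfe9b6ba7fefefefeaba79b6bfe9b6ba7fe6ba79bfefefefeabfefefeabfefefeabfefefeababababfd6ba79bfea79b6bfe9b6ba7fefefefeaba79b6bfe9b6ba7fe6ba79bfefefefeab9b6ba7fe6ba79bfea79b6bfefefefeabfefefeabfefefeabfefefeababababfda79b6bfe9b6ba7fe6ba79bfefefefeab9b6ba7fe6ba79bfea79b6bfefefefeab6ba79bfea79b6bfe9b6ba7fefefefeabfefefeabfefefeabfefefeababababfdfefefeabfefefeabfefefeababababfdfefefeabfefefeabfefefeababababfdfefefeabfefefeabfefefeababababfdabababfdabababfdabababfdfdfdfd57fefefeabfefefeabfefefeababababfdfefefeabfefefeabfefefeababababfdfefefeabfefefeabfefefeababababfdabababfdabababfdabababfdfdfdfd57fefefeabfefefeabfefefeababababfdfefefeabfefefeabfefefeababababfdfefefeabfefefeabfefefeababababfdabababfdabababfdabababfdfdfdfd57fefefeabfefefeabfefefeababababfdfefefeabfefefeabfefefeababababfdfefefeabfefefeabfefefeababababfdabababfdabababfdabababfdfdfdfd57abababfdabababfdabababfdfdfdfd57abababfdabababfdabababfdfdfdfd57abababfdabababfdabababfdfdfdfd57fdfdfd57fdfdfd57fdfdfd57575757fc)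 n

theorem ty_lt (n : ℕ) : ty n < 4 := apw_lt (w := 2) (mk := 3) rfl _ n

theorem ty_facts (v : V) : (ty (cd v) = 3 ↔ Q0 v = 1) ∧ (ty (cd v) = 0 ↔ v = 0) := by
  have := forall_V (f := fun n => decide ((ty n = 3 ↔ ∑ i, nm (dc n i) = 1) ∧ (ty n = 0 ↔ n = 0)))
    (by decide +kernel) v
  rwa [decide_eq_true_iff, dc_cd, ← cd_zero, cd_inj.eq_iff] at this

theorem Q0_eq_one {v : V} : Q0 v = 1 ↔ ty (cd v) = 3 := (ty_facts v).1.symm

theorem Q0_eq_zero {v : V} : Q0 v = 0 ↔ ty (cd v) ≠ 3 := by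
  rw [Ne, ← Q0_eq_one]; generalize Q0 v = a; revert a; decide

theorem ty_eq_zero {v : V} : ty (cd v) = 0 ↔ v = 0 := (ty_facts v).2

/-- The quadratic form on codes. -/
def qc (n : ℕ) : Bool := Nat.beq (ty n) (nat_lit 3)

/-- The bilinear form on codes. -/
def bc (m n : ℕ) : Bool := xor (xor (qc (Nat.xor m n)) (qc m)) (qc n)

theorem Q0_qc (v : V) : Q0 v = b2 (qc (cd v)) := by
  by_cases h : ty (cd v) = 3
  · rw [Q0_eq_one.2 h, qc, h]; rfl
  · rw [Q0_eq_zero.2 h, qc, Bool.eq_false_iff.2 fun e => h (Nat.eq_of_beq_eq_true e)]; rfl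

theorem B_bc (u v : V) : Orth.B Q0 u v = b2 (bc (cd u) (cd v)) := by
  rw [B_eq, Q0_qc, Q0_qc, Q0_qc, cd_add, bc]
  change _ = b2 (xor (xor (qc (cd u ^^^ cd v)) _) _)
  generalize qc (cd u ^^^ cd v) = a, qc (cd u) = b, qc (cd v) = c
  revert a b c; decide

theorem B_eq_zero {u v : V} : Orth.B Q0 u v = 0 ↔ bc (cd u) (cd v) = false := by
  rw [B_bc]; cases bc (cd u) (cd v) <;> simp [b2]

theorem ncard_V {P : V → Prop} {f : ℕ → Bool} (h : ∀ v, P v ↔ f (cd v) = true) :
    {v | P v}.ncard = bsum (fun n => b2n (f n)) 12 0 := by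
  rw [bsum_count, ← Set.ncard_image_of_injective _ cd_inj, ← Set.ncard_coe_finset]
  congr 1
  ext n
  simp only [Set.mem_image, Set.mem_ofPred_eq, Finset.coe_filter, Finset.mem_range, h]
  exact ⟨fun ⟨v, a, b⟩ => b ▸ ⟨cd_lt v, a⟩, fun ⟨a, b⟩ => ⟨dc n, by rwa [cd_dc a], cd_dc a⟩⟩

/-- The generators preserve the class function `cl`. -/
noncomputable def invTab (l : List ℕ) (cl : ℕ → ℕ) : Bool :=
  ball (fun n => force (cl n) fun c => lall l fun s => force (mm s n) fun m => Nat.beq (cl m) c) 12 0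

theorem invTab_sound {l : List ℕ} {cl : ℕ → ℕ} (h : invTab l cl = true) {g : Γ} (hg : g ∈ gen code l) (v : V) :
    cl (cd (g v)) = cl (cd v) :=
  closure_smul_mem (E := {u | cl (cd u) = cl (cd v)}) (Set.toFinite _) (fun s hs u hu => by
    have := forall_V h u
    simp only [force_eq, lall_iff, Nat.beq_eq] at this
    have := this _ hs
    rw [mm_code] at this
    exact this.trans hu) g hg v rfl

/-- Every vector is moved by the generators to the representative of its class. -/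
noncomputable def connTab (l : List ℕ) (cl rep dp : ℕ → ℕ) : Bool :=
  ball (fun n => force (cl n) fun c => bor (Nat.beq n (rep c)) (force (dp n) fun e =>
    lany l fun s => force (mm s n) fun m => band (Nat.beq (cl m) c) (Nat.ble (Nat.succ (dp m)) e))) 12 0

theorem connTab_sound {l : List ℕ} (hv : Valid code l) {cl rep dp : ℕ → ℕ} (h : connTab l cl rep dp = true)
    (v : V) : ∃ g ∈ gen code l, cd (g v) = rep (cl (cd v)) := by
  induction hn : dp (cd v) using Nat.strong_induction_on generalizing v with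
  | _ n ih =>
  have := forall_V h v
  simp only [force_eq, bor_eq, band_eq, Bool.or_eq_true, Bool.and_eq_true, lany_iff, Nat.beq_eq,
    Nat.ble_eq] at this
  rcases this with e | ⟨s, hs, e1, e2⟩
  · exact ⟨1, one_mem _, e⟩
  · obtain ⟨k, rfl⟩ := hv s hs
    rw [mm_code] at e1 e2
    obtain ⟨g, hg, e⟩ := ih _ (by omega) (k v) rfl
    exact ⟨g * k, mul_mem hg (mem_gen_of_mem hs), by rw [← e1, ← e]; rfl⟩

theorem connTab_trans {l : List ℕ} (hv : Valid code l) {cl rep dp : ℕ → ℕ} (h : connTab l cl rep dp = true)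
    {u v : V} (e : cl (cd u) = cl (cd v)) : ∃ g ∈ gen code l, g u = v := by
  obtain ⟨g, hg, a⟩ := connTab_sound hv h u
  obtain ⟨k, hk, b⟩ := connTab_sound hv h v
  refine ⟨k⁻¹ * g, mul_mem (inv_mem hk) hg, ?_⟩
  rw [LinearEquiv.mul_apply, cd_inj (a.trans (e ▸ b.symm))]
  exact k.symm_apply_apply v

end Cfsg.Agent.LF
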