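import Cfsg.Agent.LF.Model
import Cfsg.Agent.Leech.U43
import Cfsg.Agent.Cl.Congr

/-! # The quotient `U4(3)` -/

set_option autoImplicit false

namespace Cfsg.Agent.LF

open Cfsg.Agent.M24 Cfsg.Agent.Cl Cfsg.Agent.Leech Equiv Subgroup

/-- Data. -/
def tlab_0 : T := (.node (.node (.node (.node (.node (.node (.node (.node .nil (nat_lit 5)
  (nat_lit 0) (nat_lit 0) .nil) (nat_lit 6) (nat_lit 54) (nat_lit 0) .nil) (nat_lit 7) (nat_lit 55) (nat_lit
  0) (.node (.node .nil (nat_lit 9) (nat_lit 55) (nat_lit 0) .nil) (nat_lit 10) (nat_lit 0) (nat_lit 0) .nil))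
  (nat_lit 11) (nat_lit 54) (nat_lit 0) (.node (.node (.node .nil (nat_lit 13) (nat_lit 54) (nat_lit 0) .nil)
  (nat_lit 14) (nat_lit 55) (nat_lit 0) .nil) (nat_lit 15) (nat_lit 0) (nat_lit 0) (.node (.node .nil (nat_lit
  17) (nat_lit 3) (nat_lit 0) .nil) (nat_lit 18) (nat_lit 78) (nat_lit 0) .nil))) (nat_lit 19) (nat_lit 80)
  (nat_lit 0) (.node (.node (.node (.node .nil (nat_lit 20) (nat_lit 5) (nat_lit 0) .nil) (nat_lit 24)
  (nat_lit 44) (nat_lit 0) .nil) (nat_lit 28) (nat_lit 42) (nat_lit 0) (.node (.node .nil (nat_lit 33)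
  (nat_lit 80) (nat_lit 0) .nil) (nat_lit 34) (nat_lit 3) (nat_lit 0) .nil)) (nat_lit 35) (nat_lit 78)
  (nat_lit 0) (.node (.node (.node .nil (nat_lit 36) (nat_lit 42) (nat_lit 0) .nil) (nat_lit 40) (nat_lit 5)
  (nat_lit 0) .nil) (nat_lit 44) (nat_lit 44) (nat_lit 0) (.node (.node .nil (nat_lit 49) (nat_lit 78)
  (nat_lit 0) .nil) (nat_lit 50) (nat_lit 80) (nat_lit 0) .nil)))) (nat_lit 51) (nat_lit 3) (nat_lit 0) (.node
  (.node (.node (.node (.node .nil (nat_lit 52) (nat_lit 44) (nat_lit 0) .nil) (nat_lit 56) (nat_lit 42)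
  (nat_lit 0) .nil) (nat_lit 60) (nat_lit 5) (nat_lit 0) (.node (.node .nil (nat_lit 65) (nat_lit 4) (nat_lit
  0) .nil) (nat_lit 66) (nat_lit 39) (nat_lit 0) .nil)) (nat_lit 67) (nat_lit 41) (nat_lit 0) (.node (.node
  (.node .nil (nat_lit 68) (nat_lit 2) (nat_lit 0) .nil) (nat_lit 72) (nat_lit 85) (nat_lit 0) .nil) (nat_lit
  76) (nat_lit 83) (nat_lit 0) (.node (.node .nil (nat_lit 80) (nat_lit 1) (nat_lit 0) .nil) (nat_lit 96)
  (nat_lit 58) (nat_lit 0) .nil))) (nat_lit 112) (nat_lit 59) (nat_lit 0) (.node (.node (.node (.node .nil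
  (nat_lit 129) (nat_lit 41) (nat_lit 0) .nil) (nat_lit 130) (nat_lit 4) (nat_lit 0) .nil) (nat_lit 131)
  (nat_lit 39) (nat_lit 0) (.node (.node .nil (nat_lit 132) (nat_lit 83) (nat_lit 0) .nil) (nat_lit 136)
  (nat_lit 2) (nat_lit 0) .nil)) (nat_lit 140) (nat_lit 85) (nat_lit 0) (.node (.node (.node .nil (nat_lit
  144) (nat_lit 59) (nat_lit 0) .nil) (nat_lit 160) (nat_lit 1) (nat_lit 0) .nil) (nat_lit 176) (nat_lit 58)
  (nat_lit 0) (.node (.node .nil (nat_lit 193) (nat_lit 39) (nat_lit 0) .nil) (nat_lit 194) (nat_lit 41)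
  (nat_lit 0) .nil))))) (nat_lit 195) (nat_lit 4) (nat_lit 0) (.node (.node (.node (.node (.node (.node .nil
  (nat_lit 196) (nat_lit 85) (nat_lit 0) .nil) (nat_lit 200) (nat_lit 83) (nat_lit 0) .nil) (nat_lit 204)
  (nat_lit 2) (nat_lit 0) (.node (.node .nil (nat_lit 208) (nat_lit 58) (nat_lit 0) .nil) (nat_lit 224)
  (nat_lit 59) (nat_lit 0) .nil)) (nat_lit 240) (nat_lit 1) (nat_lit 0) (.node (.node (.node .nil (nat_lit
  257) (nat_lit 102) (nat_lit 0) .nil) (nat_lit 258) (nat_lit 77) (nat_lit 0) .nil) (nat_lit 259) (nat_lit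
  115) (nat_lit 0) (.node (.node .nil (nat_lit 260) (nat_lit 104) (nat_lit 0) .nil) (nat_lit 264) (nat_lit 76)
  (nat_lit 0) .nil))) (nat_lit 268) (nat_lit 114) (nat_lit 0) (.node (.node (.node (.node .nil (nat_lit 272)
  (nat_lit 106) (nat_lit 0) .nil) (nat_lit 288) (nat_lit 75) (nat_lit 0) .nil) (nat_lit 304) (nat_lit 117)
  (nat_lit 0) (.node (.node .nil (nat_lit 320) (nat_lit 108) (nat_lit 0) .nil) (nat_lit 384) (nat_lit 74)
  (nat_lit 0) .nil)) (nat_lit 448) (nat_lit 116) (nat_lit 0) (.node (.node (.node .nil (nat_lit 513) (nat_lit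
  115) (nat_lit 0) .nil) (nat_lit 514) (nat_lit 102) (nat_lit 0) .nil) (nat_lit 515) (nat_lit 77) (nat_lit 0)
  (.node (.node .nil (nat_lit 516) (nat_lit 114) (nat_lit 0) .nil) (nat_lit 520) (nat_lit 104) (nat_lit 0)
  .nil)))) (nat_lit 524) (nat_lit 76) (nat_lit 0) (.node (.node (.node (.node (.node .nil (nat_lit 528)
  (nat_lit 117) (nat_lit 0) .nil) (nat_lit 544) (nat_lit 106) (nat_lit 0) .nil) (nat_lit 560) (nat_lit 75)
  (nat_lit 0) (.node (.node .nil (nat_lit 576) (nat_lit 116) (nat_lit 0) .nil) (nat_lit 640) (nat_lit 108)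
  (nat_lit 0) .nil)) (nat_lit 704) (nat_lit 74) (nat_lit 0) (.node (.node (.node .nil (nat_lit 769) (nat_lit
  77) (nat_lit 0) .nil) (nat_lit 770) (nat_lit 115) (nat_lit 0) .nil) (nat_lit 771) (nat_lit 102) (nat_lit 0)
  (.node (.node .nil (nat_lit 772) (nat_lit 76) (nat_lit 0) .nil) (nat_lit 776) (nat_lit 114) (nat_lit 0)
  .nil))) (nat_lit 780) (nat_lit 104) (nat_lit 0) (.node (.node (.node (.node .nil (nat_lit 784) (nat_lit 75)
  (nat_lit 0) .nil) (nat_lit 800) (nat_lit 117) (nat_lit 0) .nil) (nat_lit 816) (nat_lit 106) (nat_lit 0)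
  (.node (.node .nil (nat_lit 832) (nat_lit 74) (nat_lit 0) .nil) (nat_lit 896) (nat_lit 116) (nat_lit 0)
  .nil)) (nat_lit 960) (nat_lit 108) (nat_lit 0) (.node (.node (.node .nil (nat_lit 1025) (nat_lit 109)
  (nat_lit 0) .nil) (nat_lit 1026) (nat_lit 122) (nat_lit 0) .nil) (nat_lit 1027) (nat_lit 67) (nat_lit 0)
  (.node .nil (nat_lit 1028) (nat_lit 107) (nat_lit 0) .nil)))))) (nat_lit 1032) (nat_lit 123) (nat_lit 0)
  (.node (.node (.node (.node (.node (.node (.node .nil (nat_lit 1036) (nat_lit 66) (nat_lit 0) .nil) (nat_lit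
  1040) (nat_lit 105) (nat_lit 0) .nil) (nat_lit 1056) (nat_lit 124) (nat_lit 0) (.node (.node .nil (nat_lit
  1072) (nat_lit 69) (nat_lit 0) .nil) (nat_lit 1088) (nat_lit 103) (nat_lit 0) .nil)) (nat_lit 1152) (nat_lit
  125) (nat_lit 0) (.node (.node (.node .nil (nat_lit 1216) (nat_lit 68) (nat_lit 0) .nil) (nat_lit 1280)
  (nat_lit 6) (nat_lit 0) .nil) (nat_lit 1365) (nat_lit 7) (nat_lit 0) (.node (.node .nil (nat_lit 1371)
  (nat_lit 56) (nat_lit 0) .nil) (nat_lit 1374) (nat_lit 57) (nat_lit 0) .nil))) (nat_lit 1383) (nat_lit 79)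
  (nat_lit 0) (.node (.node (.node (.node .nil (nat_lit 1386) (nat_lit 101) (nat_lit 0) .nil) (nat_lit 1389)
  (nat_lit 45) (nat_lit 0) .nil) (nat_lit 1398) (nat_lit 81) (nat_lit 0) (.node (.node .nil (nat_lit 1401)
  (nat_lit 43) (nat_lit 0) .nil) (nat_lit 1407) (nat_lit 94) (nat_lit 0) .nil)) (nat_lit 1431) (nat_lit 38)
  (nat_lit 0) (.node (.node (.node .nil (nat_lit 1434) (nat_lit 99) (nat_lit 0) .nil) (nat_lit 1437) (nat_lit
  84) (nat_lit 0) .nil) (nat_lit 1446) (nat_lit 97) (nat_lit 0) (.node (.node .nil (nat_lit 1449) (nat_lit 95)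
  (nat_lit 0) .nil) (nat_lit 1455) (nat_lit 8) (nat_lit 0) .nil)))) (nat_lit 1461) (nat_lit 60) (nat_lit 0)
  (.node (.node (.node (.node (.node .nil (nat_lit 1467) (nat_lit 13) (nat_lit 0) .nil) (nat_lit 1470)
  (nat_lit 11) (nat_lit 0) .nil) (nat_lit 1494) (nat_lit 40) (nat_lit 0) (.node (.node .nil (nat_lit 1497)
  (nat_lit 82) (nat_lit 0) .nil) (nat_lit 1503) (nat_lit 96) (nat_lit 0) .nil)) (nat_lit 1509) (nat_lit 61)
  (nat_lit 0) (.node (.node (.node .nil (nat_lit 1515) (nat_lit 10) (nat_lit 0) .nil) (nat_lit 1518) (nat_lit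
  12) (nat_lit 0) .nil) (nat_lit 1527) (nat_lit 98) (nat_lit 0) (.node (.node .nil (nat_lit 1530) (nat_lit 9)
  (nat_lit 0) .nil) (nat_lit 1533) (nat_lit 100) (nat_lit 0) .nil))) (nat_lit 1536) (nat_lit 16) (nat_lit 0)
  (.node (.node (.node (.node .nil (nat_lit 1623) (nat_lit 62) (nat_lit 0) .nil) (nat_lit 1626) (nat_lit 22)
  (nat_lit 0) .nil) (nat_lit 1629) (nat_lit 63) (nat_lit 0) (.node (.node .nil (nat_lit 1638) (nat_lit 27)
  (nat_lit 0) .nil) (nat_lit 1641) (nat_lit 29) (nat_lit 0) .nil)) (nat_lit 1647) (nat_lit 53) (nat_lit 0)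
  (.node (.node (.node .nil (nat_lit 1653) (nat_lit 64) (nat_lit 0) .nil) (nat_lit 1659) (nat_lit 93) (nat_lit
  0) .nil) (nat_lit 1662) (nat_lit 31) (nat_lit 0) (.node (.node .nil (nat_lit 1686) (nat_lit 28) (nat_lit 0)
  .nil) (nat_lit 1689) (nat_lit 26) (nat_lit 0) .nil))))) (nat_lit 1695) (nat_lit 52) (nat_lit 0) (.node
  (.node (.node (.node (.node (.node .nil (nat_lit 1701) (nat_lit 23) (nat_lit 0) .nil) (nat_lit 1707)
  (nat_lit 72) (nat_lit 0) .nil) (nat_lit 1710) (nat_lit 73) (nat_lit 0) (.node (.node .nil (nat_lit 1719)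
  (nat_lit 91) (nat_lit 0) .nil) (nat_lit 1722) (nat_lit 70) (nat_lit 0) .nil)) (nat_lit 1725) (nat_lit 33)
  (nat_lit 0) (.node (.node (.node .nil (nat_lit 1749) (nat_lit 65) (nat_lit 0) .nil) (nat_lit 1755) (nat_lit
  36) (nat_lit 0) .nil) (nat_lit 1758) (nat_lit 86) (nat_lit 0) (.node (.node .nil (nat_lit 1767) (nat_lit 34)
  (nat_lit 0) .nil) (nat_lit 1770) (nat_lit 71) (nat_lit 0) .nil))) (nat_lit 1773) (nat_lit 88) (nat_lit 0)
  (.node (.node (.node (.node .nil (nat_lit 1782) (nat_lit 49) (nat_lit 0) .nil) (nat_lit 1785) (nat_lit 48)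
  (nat_lit 0) .nil) (nat_lit 1791) (nat_lit 17) (nat_lit 0) (.node (.node .nil (nat_lit 1792) (nat_lit 14)
  (nat_lit 0) .nil) (nat_lit 1878) (nat_lit 119) (nat_lit 0) .nil)) (nat_lit 1881) (nat_lit 118) (nat_lit 0)
  (.node (.node (.node .nil (nat_lit 1887) (nat_lit 25) (nat_lit 0) .nil) (nat_lit 1893) (nat_lit 121)
  (nat_lit 0) .nil) (nat_lit 1899) (nat_lit 30) (nat_lit 0) (.node (.node .nil (nat_lit 1902) (nat_lit 92)
  (nat_lit 0) .nil) (nat_lit 1911) (nat_lit 20) (nat_lit 0) .nil)))) (nat_lit 1914) (nat_lit 51) (nat_lit 0)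
  (.node (.node (.node (.node (.node .nil (nat_lit 1917) (nat_lit 18) (nat_lit 0) .nil) (nat_lit 1941)
  (nat_lit 120) (nat_lit 0) .nil) (nat_lit 1947) (nat_lit 87) (nat_lit 0) (.node (.node .nil (nat_lit 1950)
  (nat_lit 37) (nat_lit 0) .nil) (nat_lit 1959) (nat_lit 47) (nat_lit 0) .nil)) (nat_lit 1962) (nat_lit 15)
  (nat_lit 0) (.node (.node (.node .nil (nat_lit 1965) (nat_lit 46) (nat_lit 0) .nil) (nat_lit 1974) (nat_lit
  35) (nat_lit 0) .nil) (nat_lit 1977) (nat_lit 89) (nat_lit 0) (.node (.node .nil (nat_lit 1983) (nat_lit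
  113) (nat_lit 0) .nil) (nat_lit 2007) (nat_lit 19) (nat_lit 0) .nil))) (nat_lit 2010) (nat_lit 50) (nat_lit
  0) (.node (.node (.node (.node .nil (nat_lit 2013) (nat_lit 21) (nat_lit 0) .nil) (nat_lit 2022) (nat_lit
  90) (nat_lit 0) .nil) (nat_lit 2025) (nat_lit 32) (nat_lit 0) (.node (.node .nil (nat_lit 2031) (nat_lit
  112) (nat_lit 0) .nil) (nat_lit 2037) (nat_lit 24) (nat_lit 0) .nil)) (nat_lit 2043) (nat_lit 111) (nat_lit
  0) (.node (.node (.node .nil (nat_lit 2046) (nat_lit 110) (nat_lit 0) .nil) (nat_lit 2049) (nat_lit 67)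
  (nat_lit 0) .nil) (nat_lit 2050) (nat_lit 109) (nat_lit 0) (.node .nil (nat_lit 2051) (nat_lit 122) (nat_lit
  0) .nil)))))))
/-- Data. -/
def tlab_1 : T := (.node (.node (.node (.node (.node (.node (.node (.node .nil (nat_lit 2056)
  (nat_lit 107) (nat_lit 0) .nil) (nat_lit 2060) (nat_lit 123) (nat_lit 0) .nil) (nat_lit 2064) (nat_lit 69)
  (nat_lit 0) (.node (.node .nil (nat_lit 2080) (nat_lit 105) (nat_lit 0) .nil) (nat_lit 2096) (nat_lit 124)
  (nat_lit 0) .nil)) (nat_lit 2112) (nat_lit 68) (nat_lit 0) (.node (.node (.node .nil (nat_lit 2176) (nat_lit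
  103) (nat_lit 0) .nil) (nat_lit 2240) (nat_lit 125) (nat_lit 0) .nil) (nat_lit 2304) (nat_lit 14) (nat_lit
  0) (.node (.node .nil (nat_lit 2391) (nat_lit 110) (nat_lit 0) .nil) (nat_lit 2394) (nat_lit 24) (nat_lit 0)
  .nil))) (nat_lit 2397) (nat_lit 111) (nat_lit 0) (.node (.node (.node (.node .nil (nat_lit 2406) (nat_lit
  21) (nat_lit 0) .nil) (nat_lit 2409) (nat_lit 19) (nat_lit 0) .nil) (nat_lit 2415) (nat_lit 50) (nat_lit 0)
  (.node (.node .nil (nat_lit 2421) (nat_lit 112) (nat_lit 0) .nil) (nat_lit 2427) (nat_lit 90) (nat_lit 0)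
  .nil)) (nat_lit 2430) (nat_lit 32) (nat_lit 0) (.node (.node (.node .nil (nat_lit 2454) (nat_lit 18)
  (nat_lit 0) .nil) (nat_lit 2457) (nat_lit 20) (nat_lit 0) .nil) (nat_lit 2463) (nat_lit 51) (nat_lit 0)
  (.node (.node .nil (nat_lit 2469) (nat_lit 25) (nat_lit 0) .nil) (nat_lit 2475) (nat_lit 119) (nat_lit 0)
  .nil)))) (nat_lit 2478) (nat_lit 118) (nat_lit 0) (.node (.node (.node (.node (.node .nil (nat_lit 2487)
  (nat_lit 92) (nat_lit 0) .nil) (nat_lit 2490) (nat_lit 121) (nat_lit 0) .nil) (nat_lit 2493) (nat_lit 30)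
  (nat_lit 0) (.node (.node .nil (nat_lit 2517) (nat_lit 113) (nat_lit 0) .nil) (nat_lit 2523) (nat_lit 35)
  (nat_lit 0) .nil)) (nat_lit 2526) (nat_lit 89) (nat_lit 0) (.node (.node (.node .nil (nat_lit 2535) (nat_lit
  37) (nat_lit 0) .nil) (nat_lit 2538) (nat_lit 120) (nat_lit 0) .nil) (nat_lit 2541) (nat_lit 87) (nat_lit 0)
  (.node (.node .nil (nat_lit 2550) (nat_lit 46) (nat_lit 0) .nil) (nat_lit 2553) (nat_lit 47) (nat_lit 0)
  .nil))) (nat_lit 2559) (nat_lit 15) (nat_lit 0) (.node (.node (.node (.node .nil (nat_lit 2560) (nat_lit 6)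
  (nat_lit 0) .nil) (nat_lit 2646) (nat_lit 100) (nat_lit 0) .nil) (nat_lit 2649) (nat_lit 98) (nat_lit 0)
  (.node (.node .nil (nat_lit 2655) (nat_lit 9) (nat_lit 0) .nil) (nat_lit 2661) (nat_lit 96) (nat_lit 0)
  .nil)) (nat_lit 2667) (nat_lit 40) (nat_lit 0) (.node (.node (.node .nil (nat_lit 2670) (nat_lit 82)
  (nat_lit 0) .nil) (nat_lit 2679) (nat_lit 12) (nat_lit 0) .nil) (nat_lit 2682) (nat_lit 61) (nat_lit 0)
  (.node (.node .nil (nat_lit 2685) (nat_lit 10) (nat_lit 0) .nil) (nat_lit 2709) (nat_lit 94) (nat_lit 0)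
  .nil))))) (nat_lit 2715) (nat_lit 81) (nat_lit 0) (.node (.node (.node (.node (.node (.node .nil (nat_lit
  2718) (nat_lit 43) (nat_lit 0) .nil) (nat_lit 2727) (nat_lit 57) (nat_lit 0) .nil) (nat_lit 2730) (nat_lit
  7) (nat_lit 0) (.node (.node .nil (nat_lit 2733) (nat_lit 56) (nat_lit 0) .nil) (nat_lit 2742) (nat_lit 45)
  (nat_lit 0) .nil)) (nat_lit 2745) (nat_lit 79) (nat_lit 0) (.node (.node (.node .nil (nat_lit 2751) (nat_lit
  101) (nat_lit 0) .nil) (nat_lit 2775) (nat_lit 11) (nat_lit 0) .nil) (nat_lit 2778) (nat_lit 60) (nat_lit 0)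
  (.node (.node .nil (nat_lit 2781) (nat_lit 13) (nat_lit 0) .nil) (nat_lit 2790) (nat_lit 84) (nat_lit 0)
  .nil))) (nat_lit 2793) (nat_lit 38) (nat_lit 0) (.node (.node (.node (.node .nil (nat_lit 2799) (nat_lit 99)
  (nat_lit 0) .nil) (nat_lit 2805) (nat_lit 8) (nat_lit 0) .nil) (nat_lit 2811) (nat_lit 97) (nat_lit 0)
  (.node (.node .nil (nat_lit 2814) (nat_lit 95) (nat_lit 0) .nil) (nat_lit 2816) (nat_lit 16) (nat_lit 0)
  .nil)) (nat_lit 2901) (nat_lit 17) (nat_lit 0) (.node (.node (.node .nil (nat_lit 2907) (nat_lit 49)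
  (nat_lit 0) .nil) (nat_lit 2910) (nat_lit 48) (nat_lit 0) .nil) (nat_lit 2919) (nat_lit 86) (nat_lit 0)
  (.node (.node .nil (nat_lit 2922) (nat_lit 65) (nat_lit 0) .nil) (nat_lit 2925) (nat_lit 36) (nat_lit 0)
  .nil)))) (nat_lit 2934) (nat_lit 88) (nat_lit 0) (.node (.node (.node (.node (.node .nil (nat_lit 2937)
  (nat_lit 34) (nat_lit 0) .nil) (nat_lit 2943) (nat_lit 71) (nat_lit 0) .nil) (nat_lit 2967) (nat_lit 31)
  (nat_lit 0) (.node (.node .nil (nat_lit 2970) (nat_lit 64) (nat_lit 0) .nil) (nat_lit 2973) (nat_lit 93)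
  (nat_lit 0) .nil)) (nat_lit 2982) (nat_lit 63) (nat_lit 0) (.node (.node (.node .nil (nat_lit 2985) (nat_lit
  62) (nat_lit 0) .nil) (nat_lit 2991) (nat_lit 22) (nat_lit 0) .nil) (nat_lit 2997) (nat_lit 53) (nat_lit 0)
  (.node (.node .nil (nat_lit 3003) (nat_lit 27) (nat_lit 0) .nil) (nat_lit 3006) (nat_lit 29) (nat_lit 0)
  .nil))) (nat_lit 3030) (nat_lit 33) (nat_lit 0) (.node (.node (.node (.node .nil (nat_lit 3033) (nat_lit 91)
  (nat_lit 0) .nil) (nat_lit 3039) (nat_lit 70) (nat_lit 0) .nil) (nat_lit 3045) (nat_lit 52) (nat_lit 0)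
  (.node (.node .nil (nat_lit 3051) (nat_lit 28) (nat_lit 0) .nil) (nat_lit 3054) (nat_lit 26) (nat_lit 0)
  .nil)) (nat_lit 3063) (nat_lit 73) (nat_lit 0) (.node (.node (.node .nil (nat_lit 3066) (nat_lit 23)
  (nat_lit 0) .nil) (nat_lit 3069) (nat_lit 72) (nat_lit 0) .nil) (nat_lit 3073) (nat_lit 122) (nat_lit 0)
  (.node .nil (nat_lit 3074) (nat_lit 67) (nat_lit 0) .nil)))))) (nat_lit 3075) (nat_lit 109) (nat_lit 0)
  (.node (.node (.node (.node (.node (.node (.node .nil (nat_lit 3076) (nat_lit 123) (nat_lit 0) .nil)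
  (nat_lit 3080) (nat_lit 66) (nat_lit 0) .nil) (nat_lit 3084) (nat_lit 107) (nat_lit 0) (.node (.node .nil
  (nat_lit 3088) (nat_lit 124) (nat_lit 0) .nil) (nat_lit 3104) (nat_lit 69) (nat_lit 0) .nil)) (nat_lit 3120)
  (nat_lit 105) (nat_lit 0) (.node (.node (.node .nil (nat_lit 3136) (nat_lit 125) (nat_lit 0) .nil) (nat_lit
  3200) (nat_lit 68) (nat_lit 0) .nil) (nat_lit 3264) (nat_lit 103) (nat_lit 0) (.node (.node .nil (nat_lit
  3328) (nat_lit 16) (nat_lit 0) .nil) (nat_lit 3414) (nat_lit 72) (nat_lit 0) .nil))) (nat_lit 3417) (nat_lit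
  73) (nat_lit 0) (.node (.node (.node (.node .nil (nat_lit 3423) (nat_lit 23) (nat_lit 0) .nil) (nat_lit
  3429) (nat_lit 70) (nat_lit 0) .nil) (nat_lit 3435) (nat_lit 33) (nat_lit 0) (.node (.node .nil (nat_lit
  3438) (nat_lit 91) (nat_lit 0) .nil) (nat_lit 3447) (nat_lit 26) (nat_lit 0) .nil)) (nat_lit 3450) (nat_lit
  52) (nat_lit 0) (.node (.node (.node .nil (nat_lit 3453) (nat_lit 28) (nat_lit 0) .nil) (nat_lit 3477)
  (nat_lit 71) (nat_lit 0) .nil) (nat_lit 3483) (nat_lit 88) (nat_lit 0) (.node (.node .nil (nat_lit 3486)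
  (nat_lit 34) (nat_lit 0) .nil) (nat_lit 3495) (nat_lit 48) (nat_lit 0) .nil)))) (nat_lit 3498) (nat_lit 17)
  (nat_lit 0) (.node (.node (.node (.node (.node .nil (nat_lit 3501) (nat_lit 49) (nat_lit 0) .nil) (nat_lit
  3510) (nat_lit 36) (nat_lit 0) .nil) (nat_lit 3513) (nat_lit 86) (nat_lit 0) (.node (.node .nil (nat_lit
  3519) (nat_lit 65) (nat_lit 0) .nil) (nat_lit 3543) (nat_lit 29) (nat_lit 0) .nil)) (nat_lit 3546) (nat_lit
  53) (nat_lit 0) (.node (.node (.node .nil (nat_lit 3549) (nat_lit 27) (nat_lit 0) .nil) (nat_lit 3558)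
  (nat_lit 93) (nat_lit 0) .nil) (nat_lit 3561) (nat_lit 31) (nat_lit 0) (.node (.node .nil (nat_lit 3567)
  (nat_lit 64) (nat_lit 0) .nil) (nat_lit 3573) (nat_lit 22) (nat_lit 0) .nil))) (nat_lit 3579) (nat_lit 63)
  (nat_lit 0) (.node (.node (.node (.node .nil (nat_lit 3582) (nat_lit 62) (nat_lit 0) .nil) (nat_lit 3584)
  (nat_lit 14) (nat_lit 0) .nil) (nat_lit 3669) (nat_lit 15) (nat_lit 0) (.node (.node .nil (nat_lit 3675)
  (nat_lit 46) (nat_lit 0) .nil) (nat_lit 3678) (nat_lit 47) (nat_lit 0) .nil)) (nat_lit 3687) (nat_lit 89)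
  (nat_lit 0) (.node (.node (.node .nil (nat_lit 3690) (nat_lit 113) (nat_lit 0) .nil) (nat_lit 3693) (nat_lit
  35) (nat_lit 0) .nil) (nat_lit 3702) (nat_lit 87) (nat_lit 0) (.node .nil (nat_lit 3705) (nat_lit 37)
  (nat_lit 0) .nil))))) (nat_lit 3711) (nat_lit 120) (nat_lit 0) (.node (.node (.node (.node (.node (.node
  .nil (nat_lit 3735) (nat_lit 32) (nat_lit 0) .nil) (nat_lit 3738) (nat_lit 112) (nat_lit 0) .nil) (nat_lit
  3741) (nat_lit 90) (nat_lit 0) (.node (.node .nil (nat_lit 3750) (nat_lit 111) (nat_lit 0) .nil) (nat_lit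
  3753) (nat_lit 110) (nat_lit 0) .nil)) (nat_lit 3759) (nat_lit 24) (nat_lit 0) (.node (.node (.node .nil
  (nat_lit 3765) (nat_lit 50) (nat_lit 0) .nil) (nat_lit 3771) (nat_lit 21) (nat_lit 0) .nil) (nat_lit 3774)
  (nat_lit 19) (nat_lit 0) (.node (.node .nil (nat_lit 3798) (nat_lit 30) (nat_lit 0) .nil) (nat_lit 3801)
  (nat_lit 92) (nat_lit 0) .nil))) (nat_lit 3807) (nat_lit 121) (nat_lit 0) (.node (.node (.node (.node .nil
  (nat_lit 3813) (nat_lit 51) (nat_lit 0) .nil) (nat_lit 3819) (nat_lit 18) (nat_lit 0) .nil) (nat_lit 3822)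
  (nat_lit 20) (nat_lit 0) (.node (.node .nil (nat_lit 3831) (nat_lit 118) (nat_lit 0) .nil) (nat_lit 3834)
  (nat_lit 25) (nat_lit 0) .nil)) (nat_lit 3837) (nat_lit 119) (nat_lit 0) (.node (.node (.node .nil (nat_lit
  3840) (nat_lit 6) (nat_lit 0) .nil) (nat_lit 3927) (nat_lit 95) (nat_lit 0) .nil) (nat_lit 3930) (nat_lit 8)
  (nat_lit 0) (.node (.node .nil (nat_lit 3933) (nat_lit 97) (nat_lit 0) .nil) (nat_lit 3942) (nat_lit 13)
  (nat_lit 0) .nil)))) (nat_lit 3945) (nat_lit 11) (nat_lit 0) (.node (.node (.node (.node (.node .nil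
  (nat_lit 3951) (nat_lit 60) (nat_lit 0) .nil) (nat_lit 3957) (nat_lit 99) (nat_lit 0) .nil) (nat_lit 3963)
  (nat_lit 84) (nat_lit 0) (.node (.node .nil (nat_lit 3966) (nat_lit 38) (nat_lit 0) .nil) (nat_lit 3990)
  (nat_lit 10) (nat_lit 0) .nil)) (nat_lit 3993) (nat_lit 12) (nat_lit 0) (.node (.node (.node .nil (nat_lit
  3999) (nat_lit 61) (nat_lit 0) .nil) (nat_lit 4005) (nat_lit 9) (nat_lit 0) .nil) (nat_lit 4011) (nat_lit
  100) (nat_lit 0) (.node (.node .nil (nat_lit 4014) (nat_lit 98) (nat_lit 0) .nil) (nat_lit 4023) (nat_lit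
  82) (nat_lit 0) .nil))) (nat_lit 4026) (nat_lit 96) (nat_lit 0) (.node (.node (.node (.node .nil (nat_lit
  4029) (nat_lit 40) (nat_lit 0) .nil) (nat_lit 4053) (nat_lit 101) (nat_lit 0) .nil) (nat_lit 4059) (nat_lit
  45) (nat_lit 0) (.node (.node .nil (nat_lit 4062) (nat_lit 79) (nat_lit 0) .nil) (nat_lit 4071) (nat_lit 43)
  (nat_lit 0) .nil)) (nat_lit 4074) (nat_lit 94) (nat_lit 0) (.node (.node (.node .nil (nat_lit 4077) (nat_lit
  81) (nat_lit 0) .nil) (nat_lit 4086) (nat_lit 56) (nat_lit 0) .nil) (nat_lit 4089) (nat_lit 57) (nat_lit 0)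
  (.node .nil (nat_lit 4095) (nat_lit 7) (nat_lit 0) .nil)))))))
/-- Data. -/
def tlab : T := (.node tlab_0 (nat_lit 2052) (nat_lit 66) (nat_lit 0) tlab_1)

/-- `SU` along a field isomorphism. -/
def suCongr {F F' : Type} [Field F] [Field F'] (e : F ≃+* F') (n q : ℕ) : SU n F q ≃* SU n F' q :=
  ((slCongr e).subgroupMap (SU n F q)).trans (MulEquiv.subgroupCongr (by
    have key : ∀ {F F' : Type} [Field F] [Field F'] (e : F ≃+* F') (g : Matrix.SpecialLinearGroup (Fin n) F),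
        g ∈ SU n F q → slCongr e g ∈ SU n F' q := fun {F F'} _ _ e g hg u v => by
      have := congrArg e (hg (e.symm ∘ u) (e.symm ∘ v))
      simpa [hermForm, slToMat, slCongr, Matrix.mulVec, dotProduct] using this
    ext g
    refine ⟨fun ⟨k, hk, h⟩ => h ▸ key e k hk, fun hg => ⟨slCongr e.symm g, key e.symm g hg, ?_⟩⟩
    exact (slCongr e).apply_symm_apply g))

theorem exists_theta (F : Type) [Field F] [Fintype F] (hF : Fintype.card F = 9) :
    ∃ θ : K0 →* PSU 4 F 3, Function.Surjective θ ∧ ∀ g, θ g = 1 ↔ g.1 ∈ zpowers W := by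
  have h := chkG_sound (finEnc 126) rfl (by norm_num) U43.chk_B
  have C := (finEnc 126).gc (w := 7) (mk := 127) rfl (by norm_num)
  obtain ⟨θ, h1, -, h2⟩ := exists_lab_hom ac ((finEnc 126).ac (w := 7) (mk := 127) rfl (by norm_num))
    C.inj (ps := (gensOf cK).zip (gensOf U43.cB)) (l := gensOf cK) (l' := gensOf U43.cB) rfl rfl
    (chk_sound chk_K).1 h.1 (t := tlab) (hi' := 4096) (by decide +kernel)
    (fun k hk _ => ⟨dc k, cd_dc hk⟩) (by decide +kernel) (sep_pt (finEnc 126) (by decide +kernel))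
  obtain ⟨e⟩ := U43.iso_PSU
  have h3 : θ ⟨W, W_mem⟩ = 1 := h2 _ 1 (by rw [C.code_one, code_W]; decide +kernel)
  have h4 : Nat.card θ.ker = 3 := by
    have := θ.ker.card_mul_index
    rw [index_ker, h1, h.2.1, show Nat.card (gen code (gensOf cK)) = _ from card_K0,
      show chainSize U43.cB = 3265920 by decide +kernel] at this
    omega
  have h5 : zpowers ⟨W, W_mem⟩ = θ.ker := eq_of_le_of_card_ge (zpowers_le.2 h3)
    (by rw [h4, Nat.card_zpowers]; exact (orderOf_W.symm.trans (Subgroup.orderOf_mk _ _).symm).le)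
  let e' := ((MulEquiv.subgroupCongr h1).trans e).trans
    (quotCenterCongr (suCongr (FiniteField.ringEquivOfCardEq (U43.card_K9.trans hF.symm)) 4 3))
  refine ⟨e'.toMonoidHom.comp θ.rangeRestrict, e'.surjective.comp θ.rangeRestrict_surjective, fun g => ?_⟩
  refine (map_eq_one_iff e' e'.injective (x := θ.rangeRestrict g)).trans ?_
  refine (Subtype.ext_iff.trans (show θ g = 1 ↔ _ from MonoidHom.mem_ker.symm)).trans ?_
  rw [← h5]
  exact ⟨fun ⟨n, hn⟩ => ⟨n, congrArg Subtype.val hn⟩, fun ⟨n, hn⟩ => ⟨n, Subtype.ext hn⟩⟩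


end Cfsg.Agent.LF
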